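import Cfsg.Agent.H65.F4T.Model

/-!
# The Schur multiplier of `F₄(2)` is cyclic of order 2 (helper65)
-/

set_option autoImplicit false
set_option maxRecDepth 10000

namespace Cfsg.Agent.H65.F4T

open Cfsg.Lie Cfsg.Agent.Lib.PackMat Cfsg.Agent.Lib.PackMatGroup Cfsg.Agent.FourTwo.Base Cfsg.Agent.FourTwo.Comm
open scoped commutatorElement

theorem neg_one_ne : (-1 : U C) ≠ 1 := by
  intro h
  have h1 := congrArg (fun g : U C => (g : M C) ⟨0, by decide⟩ ⟨0, by decide⟩) h
  simp only [Units.val_neg, Units.val_one, Matrix.neg_apply, Matrix.one_apply_eq] at h1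
  exact absurd h1 (by decide)

/-- the commutators of the matrices -/
theorem X_comm {r s : ℕ} (hr : r < 48) (hs : s < 48) (h1 : r ≠ s) (h2 : r + s ≠ 47) :
    ⁅X s, X r⁆ = ((cmg r s).map X).prod * (if sg r s then -1 else 1) := by
  have hc : ∀ g : U C, (if sg r s then (-1 : U C) else 1) * g = g * (if sg r s then -1 else 1) := by
    intro g
    split_ifs
    · exact neg_one_cen g
    · rw [one_mul, mul_one]
  have e1 : (X r)⁻¹ = X r := inv_eq_of_mul_eq_one_right (X_sq hr)
  have e2 : (X s)⁻¹ = X s := inv_eq_of_mul_eq_one_right (X_sq hs)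
  rw [commutatorElement_def, e1, e2, mul_assoc (X s) (X r), X_rel hr hs h1 h2]
  rw [mul_assoc (X s * _ ) (X r), ← hc (X r)]
  have : X s * (X s * ((cmg r s).map X).prod * ((if sg r s then (-1 : U C) else 1) * X r)) * X r =
      (X s * X s) * ((cmg r s).map X).prod * (if sg r s then (-1 : U C) else 1) * (X r * X r) := by
    simp only [mul_assoc]
  rw [this, X_sq hs, X_sq hr, one_mul, mul_one]

/-- `-1` is a product of commutators. -/
theorem neg_one_mem (H : Subgroup (U C)) (h : ∀ r < 48, ∀ s < 48, ⁅X r, X s⁆ ∈ H) : (-1 : U C) ∈ H := by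
  have a1 : X 17 ∈ H := by
    have := h 43 (by norm_num) 1 (by norm_num)
    rw [X_comm (by norm_num) (by norm_num) (by norm_num) (by norm_num)] at this
    rwa [show cmg 1 43 = [17] by decide +kernel, show sg 1 43 = false by decide +kernel, List.map_singleton,
      List.prod_singleton, if_neg (by decide), mul_one] at this
  have a2 : X 7 ∈ H := by
    have := h 36 (by norm_num) 0 (by norm_num)
    rw [X_comm (by norm_num) (by norm_num) (by norm_num) (by norm_num)] at this
    rw [show cmg 0 36 = [7, 17] by decide +kernel, show sg 0 36 = false by decide +kernel, List.map_cons,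
      List.map_singleton, List.prod_cons, List.prod_singleton, if_neg (by decide), mul_one] at this
    exact (Subgroup.mul_mem_cancel_right H a1).1 this
  have := h 33 (by norm_num) 3 (by norm_num)
  rw [X_comm (by norm_num) (by norm_num) (by norm_num) (by norm_num)] at this
  rw [show cmg 3 33 = [7] by decide +kernel, show sg 3 33 = true by decide +kernel, List.map_singleton,
      List.prod_singleton, if_pos rfl] at this
  exact (Subgroup.mul_mem_cancel_left H a2).1 this

theorem simple_LL : IsSimpleGroup LL := (Cfsg.Agent.S1054.result (F := ZMod 2) chevF4 (by simp)).1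

theorem phi_inj {φ : LL →* U C ⧸ NN} (hφ : ∀ r < 48, φ (x r) = q (X r)) : Function.Injective φ := by
  have := simple_LL
  rw [← MonoidHom.ker_eq_bot_iff]
  refine (IsSimpleGroup.eq_bot_or_eq_top_of_normal _ inferInstance).resolve_right fun htop => ?_
  have h1 : ∀ r < 48, X r = 1 ∨ X r = -1 := by
    intro r hr
    rw [← q_eq_one, ← hφ r hr, ← MonoidHom.mem_ker, htop]
    exact Subgroup.mem_top _
  have h2 : (-1 : U C) ∈ (⊥ : Subgroup (U C)) := by
    apply neg_one_mem
    intro r hr s hs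
    rw [Subgroup.mem_bot, commutatorElement_eq_one_iff_mul_comm]
    rcases h1 r hr with e | e <;> rw [e]
    · rw [one_mul, mul_one]
    · exact neg_one_cen _
  exact neg_one_ne (Subgroup.mem_bot.1 h2)

/-- **The double cover of `F₄(2)`.** -/
theorem exists_cover : ∃ (Γ : Type) (_ : Group Γ) (_ : Finite Γ) (σ : Γ →* LL), Cfsg.IsStemExtension σ ∧
    Nat.card σ.ker = 2 := by
  obtain ⟨φ, hφ⟩ := exists_phi
  have hinj := phi_inj hφ
  let Γ : Subgroup (U C) := φ.range.comap q
  let ρ : Γ →* φ.range := (q.comp Γ.subtype).codRestrict φ.range fun g => g.2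
  let σ : Γ →* LL := (MonoidHom.ofInjective hinj).symm.toMonoidHom.comp ρ
  have hσ : ∀ g : Γ, φ (σ g) = q (g : U C) := by
    intro g
    have h1 : MonoidHom.ofInjective hinj (σ g) = ρ g := MulEquiv.apply_symm_apply _ _
    exact congrArg Subtype.val h1
  have hker : ∀ g : Γ, g ∈ σ.ker ↔ (g : U C) = 1 ∨ (g : U C) = -1 := by
    intro g
    rw [← q_eq_one, ← hσ, MonoidHom.mem_ker, ← map_one φ]
    exact hinj.eq_iff.symm
  have hneg : (-1 : U C) ∈ Γ := by
    show q (-1) ∈ φ.range
    rw [(q_eq_one).2 (Or.inr rfl)]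
    exact one_mem _
  have hX : ∀ r < 48, X r ∈ Γ := by
    intro r hr
    show q (X r) ∈ φ.range
    exact ⟨x r, hφ r hr⟩
  have hfin : Finite Γ := inferInstance
  refine ⟨Γ, inferInstance, hfin, σ, ⟨?_, ?_, ?_⟩, ?_⟩
  · intro y
    obtain ⟨g, hg⟩ := QuotientGroup.mk'_surjective NN (φ y)
    refine ⟨⟨g, ⟨y, hg.symm⟩⟩, hinj ?_⟩
    rw [hσ]
    exact hg
  · intro g hg
    rw [Subgroup.mem_center_iff]
    intro h
    apply Subtype.ext
    rw [Subgroup.coe_mul, Subgroup.coe_mul]
    rcases (hker g).1 hg with e | e <;> rw [e]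
    · rw [one_mul, mul_one]
    · exact (neg_one_cen _).symm
  · intro g hg
    have h1 : (-1 : U C) ∈ (commutator Γ).map Γ.subtype := by
      apply neg_one_mem
      intro r hr s hs
      refine ⟨⁅(⟨X r, hX r hr⟩ : Γ), ⟨X s, hX s hs⟩⁆, ?_, ?_⟩
      · exact Subgroup.commutator_mem_commutator (Subgroup.mem_top _) (Subgroup.mem_top _)
      · rw [map_commutatorElement]; rfl
    obtain ⟨k, hk, hk'⟩ := h1
    rcases (hker g).1 hg with e | e
    · rw [show g = 1 from Subtype.ext e]; exact one_mem _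
    · rw [show g = k from Subtype.ext (by rw [e, ← hk']; rfl)]; exact hk
  · have h1 : ∀ g : σ.ker, g = 1 ∨ g = ⟨⟨-1, hneg⟩, (hker _).2 (Or.inr rfl)⟩ := by
      rintro ⟨g, hg⟩
      rcases (hker g).1 hg with e | e
      · exact Or.inl (Subtype.ext (Subtype.ext e))
      · exact Or.inr (Subtype.ext (Subtype.ext e))
    have h2 : (1 : σ.ker) ≠ ⟨⟨-1, hneg⟩, (hker _).2 (Or.inr rfl)⟩ := by
      intro h
      exact neg_one_ne (congrArg (fun g : σ.ker => ((g : Γ) : U C)) h).symm
    rw [Nat.card_eq_two_iff]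
    exact ⟨1, _, h2, Set.eq_univ_of_forall fun g => by
      rcases h1 g with e | e
      · exact Or.inl e
      · exact Or.inr e⟩

theorem hasMult_LL : Cfsg.HasCyclicSchurMultiplier LL 2 := by
  have hp : commutator LL = ⊤ := by
    have := simple_LL
    refine (IsSimpleGroup.eq_bot_or_eq_top_of_normal (commutator LL) inferInstance).resolve_left fun h => ?_
    apply (Cfsg.Agent.S1054.result (F := ZMod 2) chevF4 (by simp)).2
    refine ⟨⟨fun a b => ?_⟩⟩
    have h1 : ⁅a, b⁆ ∈ commutator LL := Subgroup.commutator_mem_commutator (Subgroup.mem_top _) (Subgroup.mem_top _)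
    rw [h, Subgroup.mem_bot, commutatorElement_eq_one_iff_mul_comm] at h1
    exact h1
  have hpf : Fact (Nat.Prime 2) := ⟨Nat.prime_two⟩
  have key : ∀ {G : Type} [Group G], Nat.card G = 2 → Nonempty (G ≃* Multiplicative (ZMod 2)) := by
    intro G _ h
    have : IsCyclic G := isCyclic_of_prime_card h
    exact ⟨mulEquivOfCyclicCardEq (by rw [h, Nat.card_congr Multiplicative.toAdd, Nat.card_zmod])⟩
  constructor
  · obtain ⟨Γ, i1, i2, σ, h1, h2⟩ := exists_cover
    exact ⟨Γ, i1, i2, σ, h1, key h2⟩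
  · intro Γ _ _ σ hσ
    have hpΓ := Cfsg.Agent.H67.perf_of_stem hp hσ
    have E : Cfsg.Agent.FourTwo.Lift.Ext σ := ⟨hσ.1, fun m hm g =>
      (Subgroup.mem_center_iff.1 (hσ.2.1 (MonoidHom.mem_ker.2 hm)) g).symm⟩
    have h1 : ∀ k : σ.ker, (k : Γ) = 1 ∨ (k : Γ) = E.m₀ := fun k =>
      Cfsg.Agent.FourTwo.Mult.ker_two E hpΓ (MonoidHom.mem_ker.1 k.2)
    by_cases h0 : ∀ k : σ.ker, k = 1
    · exact ⟨1, fun y => ⟨1, by rw [h0 y]; rfl⟩⟩
    · push Not at h0
      obtain ⟨k, hk⟩ := h0
      have h2 : Nat.card σ.ker = 2 := by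
        rw [Nat.card_eq_two_iff]
        refine ⟨1, k, hk.symm, Set.eq_univ_of_forall fun g => ?_⟩
        rcases h1 g with e | e
        · exact Or.inl (Subtype.ext e)
        · have hk' : (k : Γ) = E.m₀ := (h1 k).resolve_left fun e => hk (Subtype.ext e)
          exact Or.inr (Subtype.ext (by rw [e, hk']))
      obtain ⟨e⟩ := key h2
      exact ⟨e.symm.toMonoidHom, e.symm.surjective⟩

/-- **The Schur multiplier of `F₄(2)`.** -/
theorem hasMult {F : Type*} [Field F] [Fintype F] (hF : Fintype.card F = 2) :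
    Cfsg.HasCyclicSchurMultiplier ↥(chevF4.group F) 2 := by
  obtain ⟨e⟩ := Cfsg.Agent.FourTwo.Mult.exists_equiv F hF
  exact Cfsg.Agent.H487.HasSchurMultiplier.congr_left hasMult_LL e.symm

end Cfsg.Agent.H65.F4T
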