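import Cfsg.Agent.H65.F4T.Chk

/-!
# The checks for the 52-dimensional matrices (helper65)
-/

set_option autoImplicit false
set_option maxRecDepth 10000

namespace Cfsg.Agent.H65.F4T

open Cfsg.Agent.Lib.PackMat

theorem good : C.good = true := by decide +kernel

theorem s0 : chkS 0 = true := by decide +kernel
theorem s1 : chkS 1 = true := by decide +kernel
theorem s2 : chkS 2 = true := by decide +kernel
theorem s3 : chkS 3 = true := by decide +kernel
theorem s4 : chkS 4 = true := by decide +kernel
theorem s5 : chkS 5 = true := by decide +kernel
theorem s6 : chkS 6 = true := by decide +kernel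
theorem s7 : chkS 7 = true := by decide +kernel
theorem s8 : chkS 8 = true := by decide +kernel
theorem s9 : chkS 9 = true := by decide +kernel
theorem s10 : chkS 10 = true := by decide +kernel
theorem s11 : chkS 11 = true := by decide +kernel
theorem s12 : chkS 12 = true := by decide +kernel
theorem s13 : chkS 13 = true := by decide +kernel
theorem s14 : chkS 14 = true := by decide +kernel
theorem s15 : chkS 15 = true := by decide +kernel
theorem s16 : chkS 16 = true := by decide +kernel
theorem s17 : chkS 17 = true := by decide +kernel
theorem s18 : chkS 18 = true := by decide +kernel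
theorem s19 : chkS 19 = true := by decide +kernel
theorem s20 : chkS 20 = true := by decide +kernel
theorem s21 : chkS 21 = true := by decide +kernel
theorem s22 : chkS 22 = true := by decide +kernel
theorem s23 : chkS 23 = true := by decide +kernel
theorem s24 : chkS 24 = true := by decide +kernel
theorem s25 : chkS 25 = true := by decide +kernel
theorem s26 : chkS 26 = true := by decide +kernel
theorem s27 : chkS 27 = true := by decide +kernel
theorem s28 : chkS 28 = true := by decide +kernel
theorem s29 : chkS 29 = true := by decide +kernel
theorem s30 : chkS 30 = true := by decide +kernel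
theorem s31 : chkS 31 = true := by decide +kernel
theorem s32 : chkS 32 = true := by decide +kernel
theorem s33 : chkS 33 = true := by decide +kernel
theorem s34 : chkS 34 = true := by decide +kernel
theorem s35 : chkS 35 = true := by decide +kernel
theorem s36 : chkS 36 = true := by decide +kernel
theorem s37 : chkS 37 = true := by decide +kernel
theorem s38 : chkS 38 = true := by decide +kernel
theorem s39 : chkS 39 = true := by decide +kernel
theorem s40 : chkS 40 = true := by decide +kernel
theorem s41 : chkS 41 = true := by decide +kernel
theorem s42 : chkS 42 = true := by decide +kernel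
theorem s43 : chkS 43 = true := by decide +kernel
theorem s44 : chkS 44 = true := by decide +kernel
theorem s45 : chkS 45 = true := by decide +kernel
theorem s46 : chkS 46 = true := by decide +kernel
theorem s47 : chkS 47 = true := by decide +kernel
theorem k0 : chkR 0 0 48 = true := by decide +kernel
theorem k1 : chkR 1 0 48 = true := by decide +kernel
theorem k2 : chkR 2 0 48 = true := by decide +kernel
theorem k3 : chkR 3 0 48 = true := by decide +kernel
theorem k4 : chkR 4 0 48 = true := by decide +kernel
theorem k5 : chkR 5 0 48 = true := by decide +kernel
theorem k6 : chkR 6 0 48 = true := by decide +kernel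
theorem k7 : chkR 7 0 48 = true := by decide +kernel
theorem k8 : chkR 8 0 48 = true := by decide +kernel
theorem k9 : chkR 9 0 48 = true := by decide +kernel
theorem k10 : chkR 10 0 48 = true := by decide +kernel
theorem k11 : chkR 11 0 48 = true := by decide +kernel
theorem k12 : chkR 12 0 48 = true := by decide +kernel
theorem k13 : chkR 13 0 48 = true := by decide +kernel
theorem k14 : chkR 14 0 48 = true := by decide +kernel
theorem k15 : chkR 15 0 48 = true := by decide +kernel
theorem k16 : chkR 16 0 48 = true := by decide +kernel
theorem k17 : chkR 17 0 48 = true := by decide +kernel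
theorem k18 : chkR 18 0 48 = true := by decide +kernel
theorem k19 : chkR 19 0 48 = true := by decide +kernel
theorem k20 : chkR 20 0 48 = true := by decide +kernel
theorem k21 : chkR 21 0 48 = true := by decide +kernel
theorem k22 : chkR 22 0 48 = true := by decide +kernel
theorem k23 : chkR 23 0 48 = true := by decide +kernel
theorem k24 : chkR 24 0 48 = true := by decide +kernel
theorem k25 : chkR 25 0 48 = true := by decide +kernel
theorem k26 : chkR 26 0 48 = true := by decide +kernel
theorem k27 : chkR 27 0 48 = true := by decide +kernel
theorem k28 : chkR 28 0 48 = true := by decide +kernel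
theorem k29 : chkR 29 0 48 = true := by decide +kernel
theorem k30 : chkR 30 0 48 = true := by decide +kernel
theorem k31 : chkR 31 0 48 = true := by decide +kernel
theorem k32 : chkR 32 0 48 = true := by decide +kernel
theorem k33 : chkR 33 0 48 = true := by decide +kernel
theorem k34 : chkR 34 0 48 = true := by decide +kernel
theorem k35 : chkR 35 0 48 = true := by decide +kernel
theorem k36 : chkR 36 0 48 = true := by decide +kernel
theorem k37 : chkR 37 0 48 = true := by decide +kernel
theorem k38 : chkR 38 0 48 = true := by decide +kernel
theorem k39 : chkR 39 0 48 = true := by decide +kernel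
theorem k40 : chkR 40 0 48 = true := by decide +kernel
theorem k41 : chkR 41 0 48 = true := by decide +kernel
theorem k42 : chkR 42 0 48 = true := by decide +kernel
theorem k43 : chkR 43 0 48 = true := by decide +kernel
theorem k44 : chkR 44 0 48 = true := by decide +kernel
theorem k45 : chkR 45 0 48 = true := by decide +kernel
theorem k46 : chkR 46 0 48 = true := by decide +kernel
theorem k47 : chkR 47 0 48 = true := by decide +kernel

theorem s_all : ∀ r < 48, chkS r = true := by
  intro r hr
  interval_cases r
  exacts [s0, s1, s2, s3, s4, s5, s6, s7, s8, s9, s10, s11, s12, s13, s14, s15, s16, s17, s18, s19, s20, s21, s22, s23, s24, s25, s26, s27, s28, s29, s30, s31, s32, s33, s34, s35, s36, s37, s38, s39, s40, s41, s42, s43, s44, s45, s46, s47]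

theorem k_all : ∀ r < 48, chkR r 0 48 = true := by
  intro r hr
  interval_cases r
  exacts [k0, k1, k2, k3, k4, k5, k6, k7, k8, k9, k10, k11, k12, k13, k14, k15, k16, k17, k18, k19, k20, k21, k22, k23, k24, k25, k26, k27, k28, k29, k30, k31, k32, k33, k34, k35, k36, k37, k38, k39, k40, k41, k42, k43, k44, k45, k46, k47]

theorem okZ : okG C Z = true := by decide +kernel
theorem scZ : checkScalar C [Z] 6 0 52 = true := by decide +kernel

end Cfsg.Agent.H65.F4T
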