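import Cfsg.Agent.H65.F4T.Checks
import Cfsg.Agent.OddHalf.D9.FFour.MultTwo
import Cfsg.Agent.S1054
import Cfsg.Agent.H487.SchurMult
import Cfsg.Agent.H67.PCov

/-!
# The double cover of `F₄(2)` (helper65)

The matrices of `F4T.Data` satisfy Steinberg's relations of `F₄(2)` up to sign; this gives a double cover of `F₄(2)` and
with the upper bound of `FourTwo.Mult` its Schur multiplier.
-/

set_option autoImplicit false
set_option maxRecDepth 10000

namespace Cfsg.Agent.H65.F4T

open Cfsg.Lie Cfsg.Agent.Lib.PackMat Cfsg.Agent.Lib.PackMatGroup Cfsg.Agent.FourTwo.Base Cfsg.Agent.FourTwo.Comm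
open scoped commutatorElement

theorem one_lt : 1 < C.p := by decide

/-- the matrix with index `r` -/
noncomputable def Mt (r : ℕ) : M C := mat C (get L r)

theorem okA {r : ℕ} (hr : r < 48) : okG C (get L r) = true := by
  have h := s_all r hr
  unfold chkS at h
  rw [Bool.and_eq_true] at h
  exact h.1

theorem okA' {r : ℕ} (hr : r < 49) : okG C (get L r) = true := by
  rcases Nat.lt_succ_iff_lt_or_eq.1 hr with h | rfl
  · exact okA h
  · exact okZ

theorem sq {r : ℕ} (hr : r < 48) : Mt r * Mt r = 1 := by
  have h := s_all r hr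
  unfold chkS at h
  rw [Bool.and_eq_true] at h
  exact mat_mul_eq_one good one_lt (okA hr) (okA hr) h.2

theorem Mt_Z : Mt 48 = -1 := by
  have h := prod_scalar_of_check good (w := [Z]) (c := 6) (by decide) one_lt (by
    intro g hg
    rw [List.mem_singleton] at hg
    subst hg
    exact okZ) scZ
  rw [List.map_singleton, List.prod_singleton] at h
  show mat C Z = -1
  rw [h]
  have e : ((6 : ℕ) : ZMod C.p) = -1 := by decide
  rw [e, neg_smul, one_smul]

theorem cw_map (w : List ℕ) : (cw L w).map (mat C) = w.map Mt := by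
  induction w with
  | nil => rfl
  | cons i w ih => rw [cw_cons, List.map_cons, List.map_cons, ih]; rfl

theorem cmg_lt : ((List.range 48).all fun r => (List.range 48).all fun s => (cmg r s).all fun c =>
    decide (c < 48)) = true := by decide +kernel

theorem rel {r s : ℕ} (hr : r < 48) (hs : s < 48) (h1 : r ≠ s) (h2 : r + s ≠ 47) :
    Mt r * Mt s = Mt s * ((cmg r s).map Mt).prod * Mt r * (if sg r s then -1 else 1) := by
  have h := allBelow_spec (k_all r hr) s hs
  unfold chkP at h
  rw [zero_add] at h
  have hb : (Nat.beq r s || Nat.beq (r + s) 47) = false := by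
    rw [Bool.or_eq_false_iff]
    constructor
    · rw [Bool.eq_false_iff]; exact fun h => h1 (Nat.eq_of_beq_eq_true h)
    · rw [Bool.eq_false_iff]; exact fun h => h2 (Nat.eq_of_beq_eq_true h)
  rw [hb, cond_false] at h
  have hc : ∀ c ∈ cmg r s, c < 48 := by
    intro c hc
    have := List.all_eq_true.1 (List.all_eq_true.1 (List.all_eq_true.1 cmg_lt r (List.mem_range.2 hr)) s
      (List.mem_range.2 hs)) c hc
    exact of_decide_eq_true this
  have ok1 : ∀ g ∈ cw L [r, s], okG C g = true := by
    intro g hg
    rw [cw_cons, cw_cons, cw_nil, List.mem_cons, List.mem_singleton] at hg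
    rcases hg with rfl | rfl
    · exact okA hr
    · exact okA hs
  have mem_cw : ∀ (w : List ℕ) (g : ℕ), g ∈ cw L w → ∃ i ∈ w, g = get L i := by
    intro w
    induction w with
    | nil => intro g hg; exact absurd hg (List.not_mem_nil)
    | cons i w ih =>
      intro g hg
      rw [cw_cons, List.mem_cons] at hg
      rcases hg with rfl | hg
      · exact ⟨i, List.mem_cons_self, rfl⟩
      · obtain ⟨j, hj, e⟩ := ih g hg
        exact ⟨j, List.mem_cons_of_mem _ hj, e⟩
  have ok2 : ∀ g ∈ cw L (w2 r s), okG C g = true := by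
    intro g hg
    obtain ⟨i, hi, rfl⟩ := mem_cw _ g hg
    apply okA'
    unfold w2 at hi
    rw [List.mem_cons, List.mem_append, List.mem_cons] at hi
    rcases hi with rfl | hi | rfl | hi
    · omega
    · have := hc i hi; omega
    · omega
    · cases hsg : sg r s with
      | false => rw [hsg, cond_false] at hi; exact absurd hi (List.not_mem_nil)
      | true => rw [hsg, cond_true, List.mem_singleton] at hi; omega
  have h5 := prod_eq_of_check good one_lt ok1 ok2 h
  rw [cw_map, cw_map] at h5
  have e1 : ([r, s].map Mt).prod = Mt r * Mt s := by simp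
  have e2 : ((w2 r s).map Mt).prod = Mt s * ((cmg r s).map Mt).prod * Mt r * (if sg r s then -1 else 1) := by
    unfold w2
    rw [List.map_cons, List.prod_cons, List.map_append, List.prod_append, List.map_cons, List.prod_cons]
    cases hsg : sg r s with
    | false => simp [mul_assoc]
    | true => simp [mul_assoc, Mt_Z]
  rw [e1, e2] at h5
  exact h5

/-- the matrices as group elements -/
noncomputable def X (r : ℕ) : U C := if h : r < 48 then ⟨Mt r, Mt r, sq h, sq h⟩ else 1

theorem coe_X {r : ℕ} (hr : r < 48) : (X r : M C) = Mt r := by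
  unfold X; rw [dif_pos hr]

theorem X_sq {r : ℕ} (hr : r < 48) : X r * X r = 1 := by
  apply Units.ext
  rw [Units.val_mul, coe_X hr, sq hr, Units.val_one]

theorem X_rel {r s : ℕ} (hr : r < 48) (hs : s < 48) (h1 : r ≠ s) (h2 : r + s ≠ 47) :
    X r * X s = X s * ((cmg r s).map X).prod * X r * (if sg r s then -1 else 1) := by
  have hc : ∀ c ∈ cmg r s, c < 48 := by
    intro c hc
    have := List.all_eq_true.1 (List.all_eq_true.1 (List.all_eq_true.1 cmg_lt r (List.mem_range.2 hr)) s
      (List.mem_range.2 hs)) c hc
    exact of_decide_eq_true this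
  have e : ∀ l : List ℕ, (∀ c ∈ l, c < 48) → (((l.map X).prod : U C) : M C) = (l.map Mt).prod := by
    intro l
    induction l with
    | nil => intro _; rfl
    | cons i l ih =>
      intro h
      rw [List.map_cons, List.prod_cons, List.map_cons, List.prod_cons, Units.val_mul,
        coe_X (h i List.mem_cons_self), ih fun c hc => h c (List.mem_cons_of_mem _ hc)]
  apply Units.ext
  rw [Units.val_mul, Units.val_mul, Units.val_mul, Units.val_mul, coe_X hr, coe_X hs, e _ hc, rel hr hs h1 h2]
  congr 1
  split_ifs
  · rw [Units.val_neg, Units.val_one]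
  · rw [Units.val_one]

/-! ### The projective representation -/

/-- `{1, -1}` -/
def NN : Subgroup (U C) := Subgroup.zpowers (-1)

theorem neg_one_cen (g : U C) : (-1 : U C) * g = g * (-1) := by
  rw [neg_one_mul, mul_neg_one]

theorem mem_NN {g : U C} : g ∈ NN ↔ g = 1 ∨ g = -1 := by
  unfold NN
  constructor
  · intro h
    exact Cfsg.Agent.H67.mem_zpowers_of_sq (c := (-1 : U C)) (by rw [neg_mul_neg, one_mul]) g |>.1 h
  · rintro (rfl | rfl)
    · exact one_mem _
    · exact Subgroup.mem_zpowers _

instance normal_NN : NN.Normal where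
  conj_mem n hn g := by
    rcases mem_NN.1 hn with rfl | rfl
    · rw [mul_one, mul_inv_cancel]; exact one_mem _
    · rw [← neg_one_cen, mul_inv_cancel_right]; exact hn

/-- the quotient map -/
noncomputable abbrev q : U C →* U C ⧸ NN := QuotientGroup.mk' NN

theorem q_eq_one {g : U C} : q g = 1 ↔ g = 1 ∨ g = -1 := by
  rw [← MonoidHom.mem_ker, QuotientGroup.ker_mk', mem_NN]

theorem q_neg (b : Bool) : q (if b then (-1 : U C) else 1) = 1 := by
  rw [q_eq_one]
  split_ifs
  · exact Or.inr rfl
  · exact Or.inl rfl

theorem exists_phi : ∃ φ : LL →* U C ⧸ NN, ∀ r < 48, φ (x r) = q (X r) := by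
  refine Cfsg.Agent.FourTwo.Pres.exists_hom (f := fun r => q (X r)) ?_ ?_
  · intro r hr
    show q (X r) * q (X r) = 1
    rw [← map_mul, X_sq hr, map_one]
  · intro r hr s hs h1 h2
    show q (X r) * q (X s) = q (X s) * ((cmg r s).map fun r => q (X r)).prod * q (X r)
    have e : ((cmg r s).map fun r => q (X r)).prod = q (((cmg r s).map X).prod) := by
      rw [map_list_prod, List.map_map]; rfl
    rw [e, ← map_mul, X_rel hr hs h1 h2, map_mul, q_neg, mul_one, map_mul, map_mul]

end Cfsg.Agent.H65.F4T
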